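import Groth.Agent.S12734
import Groth.Agent.ArtKit.Action
import Groth.Agent.ArtKit.HullExists

/-!
# Schlessinger's criterion when the residue map of the coefficient ring is surjective
-/

set_option autoImplicit false

universe u v

open CategoryTheory ArtFun

namespace Groth.Agent.ArtCrit

variable {Λ k : Type u} [CommRing Λ] [Field k] [Algebra Λ k]

theorem finite_of_surjective (hs : Function.Surjective (algebraMap Λ k)) : Module.Finite Λ k :=
  Module.Finite.of_surjective (Algebra.linearMap Λ k) hs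

theorem hom_base_ext (hs : Function.Surjective (algebraMap Λ k)) {A : Art Λ k}
    (σ τ : Art.base Λ k ⟶ A) : σ = τ :=
  Art.hom_ext (AlgHom.ext fun a => by
    obtain ⟨l, rfl⟩ := hs a
    exact (σ.toAlgHom.commutes l).trans (τ.toAlgHom.commutes l).symm)

variable {F : Art Λ k ⥤ Type v}

/-- A pro-representable functor is left exact. -/
theorem isLeftExact_of_proRep (P : ProRep F) : IsLeftExact F := by
  intro B A A' A'' p' p'' f' f'' h
  constructor
  · refine (ArtKit.injective_cmp_iff h).2 fun z₁ z₂ e₁ e₂ => ?_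
    obtain ⟨ψ₁, rfl⟩ := (P.universal B).2 z₁
    obtain ⟨ψ₂, rfl⟩ := (P.universal B).2 z₂
    rw [← P.family.natural, ← P.family.natural] at e₁ e₂
    rw [ArtKit.homSet_ext h ((P.universal _).1 e₁) ((P.universal _).1 e₂)]
  · refine (ArtKit.surjective_cmp_iff h).2 fun x' x'' e => ?_
    obtain ⟨φ', rfl⟩ := (P.universal A').2 x'
    obtain ⟨φ'', rfl⟩ := (P.universal A'').2 x''
    rw [← P.family.natural, ← P.family.natural] at e
    obtain ⟨z, hz₁, hz₂⟩ := (ArtKit.surjective_cmp_iff
      (F := hR P.ring.carrier P.ring.res) h).1 (ArtKit.bijective_cmp_hR h).2 φ' φ''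
        ((P.universal A).1 e)
    exact ⟨P.family.app B z, (P.family.natural p' z).symm.trans (congrArg _ hz₁),
      (P.family.natural p'' z).symm.trans (congrArg _ hz₂)⟩

theorem isProrepresentable_iff [IsNoetherianRing Λ] (hs : Function.Surjective (algebraMap Λ k))
    [TangentStr F] (h0 : H0 F) :
    IsProrepresentable F ↔ (Hbar F ∧ Heps F ∧ Hfin F ∧ HSq F) := by
  have := finite_of_surjective hs
  constructor
  · intro hP
    obtain ⟨⟨_, hrs⟩, hfin, _⟩ := (S12734.result F).1 hP
    obtain ⟨P⟩ := hP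
    have hle := isLeftExact_of_proRep P
    exact ⟨fun _ _ _ _ a b c d h _ => (hle a b c d h).2, fun _ _ a b h => hle a b _ _ h, hfin,
      fun _ _ _ a b c h _ => hle a b c c h⟩
  · rintro ⟨h1, h2, h3, h4⟩
    refine (S12734.result F).2 ⟨⟨h0, ArtKit.rs_of_smallExt F fun _ _ _ _ a b c d hh hs' =>
      ⟨ArtKit.injective_cmp_of_hsq h0 h1 h2 h4 hh hs', h1 a b c d hh hs'⟩⟩, h3,
      fun x₀ σ τ _ => hom_base_ext hs σ τ⟩

theorem isProrepresentable_iff_isLeftExact [IsNoetherianRing Λ]
    (hs : Function.Surjective (algebraMap Λ k)) [TangentStr F] (h0 : H0 F) :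
    IsProrepresentable F ↔ (IsLeftExact F ∧ Hfin F) := by
  have := finite_of_surjective hs
  constructor
  · intro hP
    obtain ⟨_, hfin, _⟩ := (S12734.result F).1 hP
    obtain ⟨P⟩ := hP
    exact ⟨isLeftExact_of_proRep P, hfin⟩
  · rintro ⟨h1, h3⟩
    exact (S12734.result F).2 ⟨⟨h0, fun _ _ _ _ a b c d h _ => h1 a b c d h⟩, h3,
      fun x₀ σ τ _ => hom_base_ext hs σ τ⟩

theorem surjective_of_tower {k Λ : Type u} [Field k] [CommRing Λ] [Algebra k Λ] [Algebra Λ k]
    [IsScalarTower k Λ k] : Function.Surjective (algebraMap Λ k) :=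
  fun a => ⟨algebraMap k Λ a, (IsScalarTower.algebraMap_apply k Λ k a).symm⟩

end Groth.Agent.ArtCrit
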