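import Groth.Agent.ArtKit.Formal
import Groth.Agent.ArtKit.Minimal

/-!
# Uniqueness of pro-representing objects
-/

set_option autoImplicit false

universe u v

open CategoryTheory ArtFun

namespace Groth.Agent.ArtCrit

variable {Λ k : Type u} [CommRing Λ] [Field k] [Algebra Λ k] {F : Art Λ k ⥤ Type v}

theorem family_ext {R : Type u} [CommRing R] [Algebra Λ R] {resR : R →ₐ[Λ] k}
    {ξ ξ' : Family R resR F} (h : ∀ A φ, ξ.app A φ = ξ'.app A φ) : ξ = ξ' := by
  cases ξ; cases ξ'
  congr 1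
  funext A φ
  exact h A φ

theorem algHom_eq_of_along_eq (P : ProRep F) {S : CRing Λ k}
    {g₁ g₂ : P.ring.carrier →ₐ[Λ] S.carrier} (h₁ : S.res.comp g₁ = P.ring.res)
    (h₂ : S.res.comp g₂ = P.ring.res) (e : P.family.along g₁ h₁ = P.family.along g₂ h₂) : g₁ = g₂ :=
  ArtKit.algHom_ext_truncs fun n =>
    congrArg Subtype.val ((P.universal _).1
      (congrArg (fun ξ : Family S.carrier S.res F => ξ.app (S.trunc n) (S.truncHom n)) e))

theorem exists_along_family (P : ProRep F) {S : CRing Λ k} (ζ : Family S.carrier S.res F) :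
    ∃ (g : P.ring.carrier →ₐ[Λ] S.carrier) (hg : S.res.comp g = P.ring.res),
      P.family.along g hg = ζ := by
  have h0 : H0 F := ArtKit.h0_of_surjective (P.universal _).2
  have hv : IsVersal P.family := fun B A μ _ φ y hy => by
    obtain ⟨ψ, rfl⟩ := (P.universal B).2 y
    rw [← P.family.natural] at hy
    exact ⟨ψ, (P.universal A).1 hy, rfl⟩
  obtain ⟨g, hg, h⟩ := ArtKit.exists_along_eq h0 hv S ζ.toFormalElt
  exact ⟨g, hg, family_ext fun A φ => ArtKit.family_app_eq h A φ⟩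

theorem along_comp {R₁ R₂ R₃ : CRing Λ k} (ξ : Family R₁.carrier R₁.res F)
    (g : R₁.carrier →ₐ[Λ] R₂.carrier) (hg : R₂.res.comp g = R₁.res)
    (g' : R₂.carrier →ₐ[Λ] R₃.carrier) (hg' : R₃.res.comp g' = R₂.res) :
    (ξ.along g hg).along g' hg' =
      ξ.along (g'.comp g) (by rw [← AlgHom.comp_assoc, hg', hg]) :=
  family_ext fun _ _ => congrArg (ξ.app _) (Subtype.ext (AlgHom.ext fun _ => rfl))

theorem along_id {R : CRing Λ k} (ξ : Family R.carrier R.res F) :
    ξ.along (AlgHom.id Λ R.carrier) (AlgHom.comp_id _) = ξ :=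
  family_ext fun _ _ => congrArg (ξ.app _) (Subtype.ext (AlgHom.ext fun _ => rfl))

theorem existsUnique_equiv (P Q : ProRep F) :
    ∃! e : P.ring.carrier ≃ₐ[Λ] Q.ring.carrier,
      ∃ he : Q.ring.res.comp e.toAlgHom = P.ring.res,
        P.family.along e.toAlgHom he = Q.family := by
  obtain ⟨g, hg, hgQ⟩ := exists_along_family P Q.family
  obtain ⟨g', hg', hgP⟩ := exists_along_family Q P.family
  have h1 : g'.comp g = AlgHom.id Λ _ :=
    algHom_eq_of_along_eq P (by rw [← AlgHom.comp_assoc, hg', hg]) (AlgHom.comp_id _) (by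
      rw [← along_comp P.family g hg g' hg', hgQ, hgP, along_id])
  have h2 : g.comp g' = AlgHom.id Λ _ :=
    algHom_eq_of_along_eq Q (by rw [← AlgHom.comp_assoc, hg, hg']) (AlgHom.comp_id _) (by
      rw [← along_comp Q.family g' hg' g hg, hgP, hgQ, along_id])
  refine ⟨AlgEquiv.ofAlgHom g g' h2 h1, ⟨hg, hgQ⟩, fun e he => ?_⟩
  obtain ⟨he', heQ⟩ := he
  exact AlgEquiv.ext fun r => DFunLike.congr_fun
    (algHom_eq_of_along_eq P he' hg (heQ.trans hgQ.symm)) r

end Groth.Agent.ArtCrit
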